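import Mathlib

/-!
# Morphisms agreeing at a generic point

Two morphisms from a reduced scheme `P` which agree on a "generic point" of `P` and which locally
land in common affine opens are equal (a substitute for separatedness of the target).
-/

set_option autoImplicit false
universe u

open CategoryTheory Limits AlgebraicGeometry

namespace Groth.Agent.Lib.Helper28.AffImg

/-- Sections of a reduced scheme are detected at a point lying in every nonempty open. -/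
theorem eq_zero_of_app_eq_zero {D P : Scheme.{u}} [IsReduced P] (δ : D ⟶ P) (d₀ : D)
    (hd₀ : ∀ O : P.Opens, (O : Set P).Nonempty → δ d₀ ∈ O) (O : P.Opens) (s : Γ(P, O))
    (hs : δ.app O s = 0) : s = 0 := by
  by_contra hne
  have h1 : P.basicOpen s ≠ ⊥ := fun h => hne ((basicOpen_eq_bot_iff s).mp h)
  have h2 : ((P.basicOpen s : P.Opens) : Set P).Nonempty := by
    rw [Set.nonempty_iff_ne_empty]
    intro h
    apply h1
    ext x
    simp [← SetLike.mem_coe, h]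
  have h3 : d₀ ∈ δ ⁻¹ᵁ P.basicOpen s := hd₀ _ h2
  rw [Scheme.preimage_basicOpen, hs, Scheme.basicOpen_zero] at h3
  exact h3

theorem app_injective_of_generic {D P : Scheme.{u}} [IsReduced P] (δ : D ⟶ P) (d₀ : D)
    (hd₀ : ∀ O : P.Opens, (O : Set P).Nonempty → δ d₀ ∈ O) (O : P.Opens) :
    Function.Injective (δ.app O) := by
  intro s s' h
  have : δ.app O (s - s') = 0 := by rw [map_sub, h, sub_self]
  exact sub_eq_zero.mp (eq_zero_of_app_eq_zero δ d₀ hd₀ O _ this)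

/-- **Agreement lemma.** -/
theorem hom_ext_of_generic {D P X : Scheme.{u}} [IsReduced P] (δ : D ⟶ P) (d₀ : D)
    (hd₀ : ∀ O : P.Opens, (O : Set P).Nonempty → δ d₀ ∈ O) (u v : P ⟶ X)
    (hδ : δ ≫ u = δ ≫ v)
    (hcov : ∀ p : P, ∃ V : X.Opens, IsAffineOpen V ∧ u p ∈ V ∧ v p ∈ V) : u = v := by
  apply Scheme.hom_ext_of_forall
  intro p
  obtain ⟨V, hV, hu, hv⟩ := hcov p
  let O : P.Opens := u ⁻¹ᵁ V ⊓ v ⁻¹ᵁ V
  have hpO : p ∈ O := ⟨hu, hv⟩
  refine ⟨O, hpO, ?_⟩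
  have hru : Set.range (O.ι ≫ u) ⊆ Set.range V.ι := by
    rintro _ ⟨x, rfl⟩
    rw [Scheme.Opens.range_ι]
    exact x.2.1
  have hrv : Set.range (O.ι ≫ v) ⊆ Set.range V.ι := by
    rintro _ ⟨x, rfl⟩
    rw [Scheme.Opens.range_ι]
    exact x.2.2
  let u' : O.toScheme ⟶ V.toScheme := IsOpenImmersion.lift V.ι (O.ι ≫ u) hru
  let v' : O.toScheme ⟶ V.toScheme := IsOpenImmersion.lift V.ι (O.ι ≫ v) hrv
  have hu' : u' ≫ V.ι = O.ι ≫ u := IsOpenImmersion.lift_fac _ _ _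
  have hv' : v' ≫ V.ι = O.ι ≫ v := IsOpenImmersion.lift_fac _ _ _
  suffices u' = v' by rw [← hu', this, hv']
  haveI : IsAffine V.toScheme := hV
  apply ext_of_isAffine
  -- the restricted test morphism
  have hδO : δ d₀ ∈ O := hd₀ O ⟨p, hpO⟩
  let δ' : (δ ⁻¹ᵁ O).toScheme ⟶ O.toScheme := δ ∣_ O
  have hδ' : δ' ≫ O.ι = (δ ⁻¹ᵁ O).ι ≫ δ := morphismRestrict_ι δ O
  let d₀' : (δ ⁻¹ᵁ O).toScheme := ⟨d₀, hδO⟩
  have hd₀' : ∀ O' : O.toScheme.Opens, (O' : Set O.toScheme).Nonempty → δ' d₀' ∈ O' := by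
    intro O' hO'
    obtain ⟨y, hy⟩ := hO'
    have h1 : δ d₀ ∈ O.ι ''ᵁ O' := hd₀ _ ⟨O.ι y, y, hy, rfl⟩
    obtain ⟨z, hz, hz'⟩ := h1
    have h2 : O.ι (δ' d₀') = δ d₀ := by
      rw [← Scheme.Hom.comp_apply, hδ']
      rfl
    have : z = δ' d₀' := O.ι.isOpenEmbedding.injective (hz'.trans h2.symm)
    rw [← this]
    exact hz
  have hcomp : δ' ≫ u' = δ' ≫ v' := by
    rw [← cancel_mono V.ι, Category.assoc, Category.assoc, hu', hv', reassoc_of% hδ',
      reassoc_of% hδ', hδ]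
  have hinj := app_injective_of_generic δ' d₀' hd₀' ⊤
  ext s
  apply hinj
  have := congrArg (fun w => w.appTop s) hcomp
  simp only [Scheme.Hom.comp_appTop, CommRingCat.comp_apply] at this
  exact this

end Groth.Agent.Lib.Helper28.AffImg
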