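import Mathlib

/-!
# Subrings of a field: localisations and intersections

Pure algebra for the construction of a finite type affine approximation inside a function field.
-/

set_option autoImplicit false

namespace Groth.Agent.Lib.Helper28.AffImg

variable {L : Type*} [Field L]

/-- `C[1/x] ∩ L` for `x ∈ C`: the elements a power of `x` multiplies into `C`. -/
def away (C : Subring L) (x : L) (hx : x ∈ C) : Subring L where
  carrier := {y | ∃ n : ℕ, x ^ n * y ∈ C}
  mul_mem' := by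
    rintro a b ⟨n, hn⟩ ⟨m, hm⟩
    refine ⟨n + m, ?_⟩
    have h : x ^ (n + m) * (a * b) = (x ^ n * a) * (x ^ m * b) := by ring
    rw [h]
    exact C.mul_mem hn hm
  one_mem' := ⟨0, by simp [C.one_mem]⟩
  add_mem' := by
    rintro a b ⟨n, hn⟩ ⟨m, hm⟩
    refine ⟨n + m, ?_⟩
    have h : x ^ (n + m) * (a + b) = x ^ m * (x ^ n * a) + x ^ n * (x ^ m * b) := by ring
    rw [h]
    exact C.add_mem (C.mul_mem (C.pow_mem hx m) hn) (C.mul_mem (C.pow_mem hx n) hm)
  zero_mem' := ⟨0, by simp [C.zero_mem]⟩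
  neg_mem' := by
    rintro a ⟨n, hn⟩
    exact ⟨n, by rw [mul_neg]; exact C.neg_mem hn⟩

lemma mem_away {C : Subring L} {x : L} {hx : x ∈ C} {y : L} :
    y ∈ away C x hx ↔ ∃ n : ℕ, x ^ n * y ∈ C := Iff.rfl

lemma le_away (C : Subring L) (x : L) (hx : x ∈ C) : C ≤ away C x hx :=
  fun y hy => ⟨0, by simpa using hy⟩

lemma inv_mem_away (C : Subring L) (x : L) (hx : x ∈ C) : x⁻¹ ∈ away C x hx := by
  by_cases h0 : x = 0
  · exact ⟨0, by simp [h0, C.zero_mem]⟩
  · exact ⟨1, by simp [h0, C.one_mem]⟩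

lemma pow_mul_mem_of_le {C : Subring L} {x : L} (hx : x ∈ C) {y : L} {n N : ℕ} (hnN : n ≤ N)
    (h : x ^ n * y ∈ C) : x ^ N * y ∈ C := by
  obtain ⟨k, rfl⟩ := Nat.exists_eq_add_of_le hnN
  have : x ^ (n + k) * y = x ^ k * (x ^ n * y) := by ring
  rw [this]
  exact C.mul_mem (C.pow_mem hx k) h

lemma away_mono {C C' : Subring L} (h : C ≤ C') (x : L) (hx : x ∈ C) :
    away C x hx ≤ away C' x (h hx) :=
  fun _ ⟨n, hn⟩ => ⟨n, h hn⟩

/-- **Unit ideal lemma.** If the `a i ∈ C` generate the unit ideal of `C` and some power of each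
`a i` multiplies `y` into `C`, then `y ∈ C`. -/
theorem mem_of_forall_pow_mul_mem (C : Subring L) {α : Type*} [Fintype α] (a d : α → L)
    (ha : ∀ i, a i ∈ C) (hd : ∀ i, d i ∈ C) (h1 : ∑ i, d i * a i = 1) (y : L)
    (hy : ∀ i, ∃ n : ℕ, a i ^ n * y ∈ C) : y ∈ C := by
  let J : Ideal C :=
    { carrier := {c | (c : L) * y ∈ C}
      add_mem' := by
        intro c c' hc hc'
        change ((c + c' : C) : L) * y ∈ C
        rw [Subring.coe_add, add_mul]
        exact C.add_mem hc hc'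
      zero_mem' := by
        change ((0 : C) : L) * y ∈ C
        simp [C.zero_mem]
      smul_mem' := by
        intro r c hc
        change ((r * c : C) : L) * y ∈ C
        rw [Subring.coe_mul, mul_assoc]
        exact C.mul_mem r.2 hc }
  have hrad : ∀ i, (⟨a i, ha i⟩ : C) ∈ J.radical := by
    intro i
    obtain ⟨n, hn⟩ := hy i
    exact ⟨n, by change ((⟨a i, ha i⟩ ^ n : C) : L) * y ∈ C; simpa using hn⟩
  have hone : (1 : C) ∈ J.radical := by
    have : (1 : C) = ∑ i, (⟨d i, hd i⟩ : C) * ⟨a i, ha i⟩ := by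
      apply Subtype.ext
      simp [h1]
    rw [this]
    exact J.radical.sum_mem fun i _ => J.radical.mul_mem_left _ (hrad i)
  have htop : J = ⊤ := by
    rw [← Ideal.radical_eq_top, Ideal.eq_top_iff_one]
    exact hone
  have : (1 : C) ∈ J := by rw [htop]; trivial
  simpa using (show ((1 : C) : L) * y ∈ C from this)

/-- **Intersection lemma.** Subrings `B k` which are "charts" over the basic opens `γ k ≠ 0` of
`ℛ` and compatible with one another intersect in a ring `R'` of which they are the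
localisations. -/
theorem iInf_le_and_le_away {ι : Type*} [Fintype ι] (ℛ : Subring L) (γ c : ι → L)
    (B : ι → Subring L)
    (hγℛ : ∀ k, γ k ∈ ℛ) (hcℛ : ∀ k, c k ∈ ℛ) (hsum : ∑ k, c k * γ k = 1)
    (hγB : ∀ k l, γ l ∈ B k)
    (h2 : ∀ k, B k ≤ away ℛ (γ k) (hγℛ k))
    (h3 : ∀ k l, B k ≤ away (B l) (γ k) (hγB l k)) :
    (⨅ k, B k) ≤ ℛ ∧
      ∀ k, B k ≤ away (⨅ l, B l) (γ k) (Subring.mem_iInf.mpr fun l => hγB l k) := by
  classical
  constructor
  · intro y hy
    rw [Subring.mem_iInf] at hy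
    exact mem_of_forall_pow_mul_mem ℛ γ c hγℛ hcℛ hsum y fun k => h2 k (hy k)
  · intro k b hb
    have hex : ∀ l, ∃ n : ℕ, γ k ^ n * b ∈ B l := fun l => h3 k l hb
    choose n hn using hex
    refine ⟨Finset.univ.sup n, ?_⟩
    rw [Subring.mem_iInf]
    intro l
    exact pow_mul_mem_of_le (hγB l k) (Finset.le_sup (Finset.mem_univ l)) (hn l)

end Groth.Agent.Lib.Helper28.AffImg
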