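import Groth.Agent.Lib.Helper28.AffImg.Alg

/-!
# Chart rings inside a field
-/

set_option autoImplicit false

namespace Groth.Agent.Lib.Helper28.AffImg

variable {L : Type*} [Field L]

/-- The chart ring `𝒜[E, 1/x]`. -/
def chart (𝒜 : Subring L) (E : Set L) (x : L) : Subring L :=
  Subring.closure ((𝒜 : Set L) ∪ E ∪ {x⁻¹})

lemma le_chart (𝒜 : Subring L) (E : Set L) (x : L) : 𝒜 ≤ chart 𝒜 E x :=
  fun _ hy => Subring.subset_closure (Or.inl (Or.inl hy))

lemma subset_chart (𝒜 : Subring L) (E : Set L) (x : L) : E ⊆ chart 𝒜 E x :=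
  fun _ hy => Subring.subset_closure (Or.inl (Or.inr hy))

lemma inv_mem_chart (𝒜 : Subring L) (E : Set L) (x : L) : x⁻¹ ∈ chart 𝒜 E x :=
  Subring.subset_closure (Or.inr rfl)

lemma chart_le {𝒜 : Subring L} {E : Set L} {x : L} {C : Subring L} (h𝒜 : 𝒜 ≤ C)
    (hE : E ⊆ C) (hx : x⁻¹ ∈ C) : chart 𝒜 E x ≤ C := by
  refine Subring.closure_le.mpr ?_
  rintro y ((hy | hy) | hy)
  · exact h𝒜 hy
  · exact hE hy
  · rw [Set.mem_singleton_iff] at hy; rw [hy]; exact hx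

section Main

variable {ι : Type*} [Fintype ι] {α : ι → ι → Type*} [∀ k l, Fintype (α k l)]
  (ℛ : Subring L) (γ c : ι → L) (hγℛ : ∀ k, γ k ∈ ℛ) (hcℛ : ∀ k, c k ∈ ℛ)
  (hsum : ∑ k, c k * γ k = 1) (hγ0 : ∀ k, γ k ≠ 0)
  (𝒜 : ι → Subring L) (h𝒜 : ∀ k, 𝒜 k ≤ away ℛ (γ k) (hγℛ k))
  (a d r : ∀ k l, α k l → L) (n : ∀ k l, α k l → ℕ)
  (ha : ∀ k l i, a k l i ∈ 𝒜 k) (hd : ∀ k l i, (γ k * γ l) ^ (n k l i) * d k l i = r k l i)
  (hda : ∀ k l, ∑ i, d k l i * a k l i = 1)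
  (hloc : ∀ k l i, ∀ x ∈ 𝒜 l, ∃ m : ℕ, a k l i ^ m * x ∈ 𝒜 k)
  (E : Set L) (hEℛ : E ⊆ ℛ) (hγE : ∀ k, γ k ∈ E) (hrE : ∀ k l i, r k l i ∈ E)

include hγ0 hd hrE in
lemma d_mem_away (k l : ι) (i : α k l) :
    d k l i ∈ away (chart (𝒜 k) E (γ k)) (γ l) (subset_chart _ _ _ (hγE l)) := by
  refine ⟨n k l i, ?_⟩
  have h1 : γ l ^ n k l i * d k l i = (γ k)⁻¹ ^ n k l i * r k l i := by
    rw [← hd k l i, mul_pow, ← mul_assoc, ← mul_assoc, ← mul_pow, inv_mul_cancel₀ (hγ0 k),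
      one_pow, one_mul]
  rw [h1]
  exact Subring.mul_mem _ (Subring.pow_mem _ (inv_mem_chart _ _ _) _)
    (subset_chart _ _ _ (hrE k l i))

include hγ0 hd hrE ha hda hloc in
lemma chart_le_away_chart (k l : ι) :
    chart (𝒜 k) E (γ k) ≤
      away (chart (𝒜 l) E (γ l)) (γ k) (subset_chart _ _ _ (hγE k)) := by
  refine chart_le ?_ ?_ (inv_mem_away _ _ _)
  · intro x hx
    refine mem_of_forall_pow_mul_mem _ (a l k) (d l k) ?_ ?_ (hda l k) x ?_
    · intro i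
      exact le_away _ _ _ (le_chart _ _ _ (ha l k i))
    · intro i
      exact d_mem_away γ hγ0 𝒜 d r n hd E hγE hrE l k i
    · intro i
      obtain ⟨m, hm⟩ := hloc l k i x hx
      exact ⟨m, le_away _ _ _ (le_chart _ _ _ hm)⟩
  · intro e he
    exact le_away _ _ _ (subset_chart _ _ _ he)

include hcℛ hsum hγ0 h𝒜 hd hrE ha hda hloc hEℛ in
/-- **The chart rings glue**: their intersection lies in `ℛ` and has them as localisations. -/
theorem chart_main :
    (⨅ k, chart (𝒜 k) E (γ k)) ≤ ℛ ∧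
      ∀ k, chart (𝒜 k) E (γ k) ≤ away (⨅ l, chart (𝒜 l) E (γ l)) (γ k)
        (Subring.mem_iInf.mpr fun l => subset_chart _ _ _ (hγE k)) := by
  refine iInf_le_and_le_away ℛ γ c (fun k => chart (𝒜 k) E (γ k)) hγℛ hcℛ hsum
    (fun k l => subset_chart _ _ _ (hγE l)) ?_ ?_
  · intro k
    exact chart_le (h𝒜 k) (fun e he => le_away _ _ _ (hEℛ he)) (inv_mem_away _ _ _)
  · intro k l
    exact chart_le_away_chart γ hγ0 𝒜 a d r n ha hd hda hloc E hγE hrE k l

end Main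

/-- The chart ring is of finite type over the ring mapping onto `𝒜`. -/
theorem finiteType_chart {A : Type*} [CommRing A] (ρ : A →+* L) (E : Set L) (hE : E.Finite)
    (x : L) (ψ : A →+* chart ρ.range E x) (hψ : ∀ a, (ψ a : L) = ρ a) : ψ.FiniteType := by
  classical
  algebraize [ψ]
  let F : Set (chart ρ.range E x) := {b | (b : L) ∈ E ∪ {x⁻¹}}
  have hF : F.Finite := by
    refine Set.Finite.preimage (Set.injOn_of_injective Subtype.val_injective) ?_
    exact hE.union (Set.finite_singleton _)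
  have key : ∀ (y : L) (hy : y ∈ chart ρ.range E x),
      (⟨y, hy⟩ : chart ρ.range E x) ∈ Algebra.adjoin A F := by
    intro y hy
    refine Subring.closure_induction (p := fun y hy =>
      (⟨y, hy⟩ : chart ρ.range E x) ∈ Algebra.adjoin A F) ?_ ?_ ?_ ?_ ?_ ?_ hy
    · rintro y ((⟨a, rfl⟩ | hy) | hy)
      · have : (⟨ρ a, le_chart _ _ _ ⟨a, rfl⟩⟩ : chart ρ.range E x) =
            algebraMap A (chart ρ.range E x) a := Subtype.ext (hψ a).symm
        rw [this]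
        exact Subalgebra.algebraMap_mem _ _
      · exact Algebra.subset_adjoin (Or.inl hy)
      · exact Algebra.subset_adjoin (Or.inr hy)
    · exact Subalgebra.zero_mem _
    · exact Subalgebra.one_mem _
    · intro y z hy hz h1 h2
      exact Subalgebra.add_mem _ h1 h2
    · intro y hy h1
      exact Subalgebra.neg_mem _ h1
    · intro y z hy hz h1 h2
      exact Subalgebra.mul_mem _ h1 h2
  refine ⟨⟨hF.toFinset, ?_⟩⟩
  rw [eq_top_iff]
  rintro ⟨y, hy⟩ -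
  rw [Set.Finite.coe_toFinset]
  exact key y hy

end Groth.Agent.Lib.Helper28.AffImg
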