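import Groth.Agent.Lib.Helper28.AffImg.Alg2
import Groth.Agent.Lib.Helper28.AffImg.Agree

/-!
# Gluing a morphism from the spectrum of a subring of a field
-/

set_option autoImplicit false
universe u

open CategoryTheory Limits AlgebraicGeometry

namespace Groth.Agent.Lib.Helper28.AffImg

/-- The abstract gluing datum. -/
structure Datum (X : Scheme.{u}) (L : Type u) [Field L] where
  ι : Type u
  [fin : Fintype ι]
  V : ι → X.Opens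
  hV : ∀ k, IsAffineOpen (V k)
  ρ : ∀ k, Γ(X, V k) →+* L
  gen : Spec (CommRingCat.of L) ⟶ X
  hgen : ∀ k, Spec.map (CommRingCat.ofHom (ρ k)) ≫ (hV k).fromSpec = gen
  R' : Subring L
  B : ι → Subring L
  γ : ι → L
  c : ι → L
  hγ : ∀ k, γ k ∈ R'
  hc : ∀ k, c k ∈ R'
  hsum : ∑ k, c k * γ k = 1
  hRB : ∀ k, R' ≤ B k
  hinv : ∀ k, (γ k)⁻¹ ∈ B k
  hγ0 : ∀ k, γ k ≠ 0
  hloc : ∀ k, B k ≤ away R' (γ k) (hγ k)
  hρB : ∀ k a, ρ k a ∈ B k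
  α : ι → ι → Type u
  [finα : ∀ k l, Fintype (α k l)]
  a : ∀ k l, α k l → Γ(X, V k)
  d : ∀ k l, α k l → L
  ha : ∀ k l i, X.basicOpen (a k l i) ≤ V l
  hd : ∀ k l i, d k l i ∈ away (B k) (γ l) (hRB k (hγ l))
  hda : ∀ k l, ∑ i, d k l i * ρ k (a k l i) = 1

attribute [instance] Datum.fin Datum.finα

namespace Datum

variable {X : Scheme.{u}} {L : Type u} [Field L] (𝒟 : Datum X L)

/-- The affine scheme `T' = Spec R'`. -/
noncomputable abbrev T' : Scheme.{u} := Spec (CommRingCat.of 𝒟.R')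

/-- The chart `Spec (B k)`. -/
noncomputable abbrev chart (k : 𝒟.ι) : Scheme.{u} := Spec (CommRingCat.of (𝒟.B k))

/-- The inclusion `R' → B k`. -/
def incl (k : 𝒟.ι) : 𝒟.R' →+* 𝒟.B k := Subring.inclusion (𝒟.hRB k)

/-- The element `γ k` of `R'`. -/
def γR (k : 𝒟.ι) : 𝒟.R' := ⟨𝒟.γ k, 𝒟.hγ k⟩

/-- The element `c k` of `R'`. -/
def cR (k : 𝒟.ι) : 𝒟.R' := ⟨𝒟.c k, 𝒟.hc k⟩

lemma sum_cR_mul_γR : ∑ k, 𝒟.cR k * 𝒟.γR k = 1 := by
  apply Subtype.ext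
  rw [AddSubmonoidClass.coe_finset_sum]
  exact 𝒟.hsum

/-- The chart map `Spec (B k) ⟶ Spec R'`. -/
noncomputable def chartMap (k : 𝒟.ι) : 𝒟.chart k ⟶ 𝒟.T' :=
  Spec.map (CommRingCat.ofHom (𝒟.incl k))

lemma isLocalization (k : 𝒟.ι) :
    letI := (𝒟.incl k).toAlgebra
    IsLocalization.Away (𝒟.γR k) (𝒟.B k) := by
  letI := (𝒟.incl k).toAlgebra
  refine IsLocalization.Away.mk (r := 𝒟.γR k) ?_ ?_ ?_
  · refine ⟨⟨⟨𝒟.γ k, 𝒟.hRB k (𝒟.hγ k)⟩, ⟨(𝒟.γ k)⁻¹, 𝒟.hinv k⟩, ?_, ?_⟩, rfl⟩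
    · exact Subtype.ext (mul_inv_cancel₀ (𝒟.hγ0 k))
    · exact Subtype.ext (inv_mul_cancel₀ (𝒟.hγ0 k))
  · intro b
    obtain ⟨n, hn⟩ := 𝒟.hloc k b.2
    refine ⟨n, ⟨𝒟.γ k ^ n * b, hn⟩, ?_⟩
    apply Subtype.ext
    simp [RingHom.algebraMap_toAlgebra, incl, γR, mul_comm]
  · intro x y hxy
    refine ⟨0, ?_⟩
    have : (x : L) = y := congrArg (fun z : 𝒟.B k => (z : L)) hxy
    simp [Subtype.ext this]

instance (k : 𝒟.ι) : IsOpenImmersion (𝒟.chartMap k) := by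
  letI := (𝒟.incl k).toAlgebra
  haveI := 𝒟.isLocalization k
  exact IsOpenImmersion.of_isLocalization (𝒟.γR k)

lemma range_chartMap (k : 𝒟.ι) :
    Set.range (𝒟.chartMap k) = (PrimeSpectrum.basicOpen (𝒟.γR k) : Set (PrimeSpectrum 𝒟.R')) := by
  letI := (𝒟.incl k).toAlgebra
  haveI := 𝒟.isLocalization k
  exact PrimeSpectrum.localization_away_comap_range (𝒟.B k) (𝒟.γR k)

end Datum

end Groth.Agent.Lib.Helper28.AffImg
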