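import Groth.Agent.Lib.Helper28.AffImg.Build

/-!
# Gluing a morphism from the spectrum of a subring of a field, II
-/

set_option autoImplicit false
universe u

open CategoryTheory Limits AlgebraicGeometry

namespace Groth.Agent.Lib.Helper28.AffImg

namespace Datum

variable {X : Scheme.{u}} {L : Type u} [Field L] (𝒟 : Datum X L)

/-- The open cover of `T'` by the charts. -/
noncomputable def cover : 𝒟.T'.OpenCover where
  I₀ := 𝒟.ι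
  X k := 𝒟.chart k
  f k := 𝒟.chartMap k
  mem₀ := by
    rw [Scheme.presieve₀_mem_precoverage_iff]
    refine ⟨fun p => ?_, fun k => inferInstance⟩
    by_contra hne
    push_neg at hne
    have hmem : ∀ k, 𝒟.γR k ∈ (show PrimeSpectrum 𝒟.R' from p).asIdeal := by
      intro k
      by_contra hk
      apply hne k
      rw [range_chartMap]
      exact hk
    have h1 : (1 : 𝒟.R') ∈ (show PrimeSpectrum 𝒟.R' from p).asIdeal := by
      rw [← 𝒟.sum_cR_mul_γR]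
      exact sum_mem fun k _ => Ideal.mul_mem_left _ _ (hmem k)
    exact (show PrimeSpectrum 𝒟.R' from p).isPrime.ne_top ((Ideal.eq_top_iff_one _).mpr h1)

/-- The structure map `Γ(X, V k) → B k`. -/
def ψ (k : 𝒟.ι) : Γ(X, 𝒟.V k) →+* 𝒟.B k := (𝒟.ρ k).codRestrict (𝒟.B k) (𝒟.hρB k)

/-- The morphism on the chart. -/
noncomputable def hk (k : 𝒟.ι) : 𝒟.chart k ⟶ X :=
  Spec.map (CommRingCat.ofHom (𝒟.ψ k)) ≫ (𝒟.hV k).fromSpec

/-- The generic point of a chart. -/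
noncomputable def genB (k : 𝒟.ι) : Spec (CommRingCat.of L) ⟶ 𝒟.chart k :=
  Spec.map (CommRingCat.ofHom (𝒟.B k).subtype)

/-- The generic point of `T'`. -/
noncomputable def genR : Spec (CommRingCat.of L) ⟶ 𝒟.T' :=
  Spec.map (CommRingCat.ofHom 𝒟.R'.subtype)

lemma genB_hk (k : 𝒟.ι) : 𝒟.genB k ≫ 𝒟.hk k = 𝒟.gen := by
  rw [← 𝒟.hgen k, genB, hk, ← Category.assoc, ← Spec.map_comp]
  rfl

lemma genB_chartMap (k : 𝒟.ι) : 𝒟.genB k ≫ 𝒟.chartMap k = 𝒟.genR := by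
  rw [genB, chartMap, ← Spec.map_comp]
  rfl

/-- The point of `Spec L`. -/
noncomputable def pt : Spec (CommRingCat.of L) := (⟨⊥, Ideal.isPrime_bot⟩ : PrimeSpectrum L)

lemma genB_pt_mem (k : 𝒟.ι) (O : (𝒟.chart k).Opens) (hO : (O : Set (𝒟.chart k)).Nonempty) :
    𝒟.genB k (pt (L := L)) ∈ O := by
  obtain ⟨x, hx⟩ := hO
  have hspec : 𝒟.genB k (pt (L := L)) ⤳ x := by
    change (show PrimeSpectrum (𝒟.B k) from 𝒟.genB k (pt (L := L))) ⤳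
      (show PrimeSpectrum (𝒟.B k) from x)
    rw [← PrimeSpectrum.le_iff_specializes]
    intro b hb
    have hb0 : ((𝒟.B k).subtype b : L) = 0 := hb
    have : b = 0 := Subtype.ext hb0
    rw [this]
    exact Ideal.zero_mem _
  exact hspec.mem_open O.isOpen hx

lemma mem_basicOpen_iff (k : 𝒟.ι) (q : 𝒟.chart k) (a : Γ(X, 𝒟.V k)) :
    𝒟.hk k q ∈ X.basicOpen a ↔ 𝒟.ψ k a ∉ (show PrimeSpectrum (𝒟.B k) from q).asIdeal := by
  have h1 : 𝒟.hk k q ∈ X.basicOpen a ↔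
      Spec.map (CommRingCat.ofHom (𝒟.ψ k)) q ∈ (𝒟.hV k).fromSpec ⁻¹ᵁ X.basicOpen a := by
    rw [hk, Scheme.Hom.comp_apply]
    rfl
  rw [h1, IsAffineOpen.fromSpec_preimage_basicOpen]
  rfl

lemma hk_mem_V (k : 𝒟.ι) (q : 𝒟.chart k) : 𝒟.hk k q ∈ 𝒟.V k := by
  have : 𝒟.hk k q ∈ Set.range (𝒟.hV k).fromSpec := by
    rw [hk, Scheme.Hom.comp_apply]
    exact ⟨_, rfl⟩
  rw [IsAffineOpen.range_fromSpec] at this
  exact this

lemma exists_not_mem (k l : 𝒟.ι) (q : PrimeSpectrum (𝒟.B k))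
    (hq : 𝒟.incl k (𝒟.γR l) ∉ q.asIdeal) : ∃ i, 𝒟.ψ k (𝒟.a k l i) ∉ q.asIdeal := by
  classical
  by_contra hall
  push_neg at hall
  have hex : ∀ i, ∃ n : ℕ, 𝒟.γ l ^ n * 𝒟.d k l i ∈ 𝒟.B k := fun i => 𝒟.hd k l i
  choose n hn using hex
  let N := Finset.univ.sup n
  have hN : ∀ i, 𝒟.γ l ^ N * 𝒟.d k l i ∈ 𝒟.B k := fun i =>
    pow_mul_mem_of_le (𝒟.hRB k (𝒟.hγ l)) (Finset.le_sup (Finset.mem_univ i)) (hn i)
  have hpow : (𝒟.incl k (𝒟.γR l)) ^ N =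
      ∑ i, (⟨𝒟.γ l ^ N * 𝒟.d k l i, hN i⟩ : 𝒟.B k) * 𝒟.ψ k (𝒟.a k l i) := by
    apply Subtype.ext
    rw [AddSubmonoidClass.coe_finset_sum]
    simp only [Subring.coe_mul, SubmonoidClass.coe_pow]
    have h1 : ∀ i, 𝒟.γ l ^ N * 𝒟.d k l i * ((𝒟.ψ k (𝒟.a k l i) : 𝒟.B k) : L) =
        𝒟.γ l ^ N * (𝒟.d k l i * 𝒟.ρ k (𝒟.a k l i)) := fun i => by
      rw [mul_assoc]; rfl
    rw [Finset.sum_congr rfl fun i _ => h1 i, ← Finset.mul_sum, 𝒟.hda k l, mul_one]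
    rfl
  have hmem : (𝒟.incl k (𝒟.γR l)) ^ N ∈ q.asIdeal := by
    rw [hpow]
    exact sum_mem fun i _ => Ideal.mul_mem_left _ _ (hall i)
  exact hq (q.isPrime.mem_of_pow_mem N hmem)

lemma chartMap_mem_basicOpen_iff (k l : 𝒟.ι) (q : 𝒟.chart k) :
    𝒟.chartMap k q ∈ (PrimeSpectrum.basicOpen (𝒟.γR l) : Set (PrimeSpectrum 𝒟.R')) ↔
      𝒟.incl k (𝒟.γR l) ∉ (show PrimeSpectrum (𝒟.B k) from q).asIdeal := Iff.rfl

instance (k : 𝒟.ι) : IsDomain (CommRingCat.of (𝒟.B k)) :=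
  inferInstanceAs (IsDomain (𝒟.B k))

instance : IsDomain (CommRingCat.of 𝒟.R') := inferInstanceAs (IsDomain 𝒟.R')

/-- The compatibility of the chart morphisms. -/
theorem compat (k l : 𝒟.ι) :
    pullback.fst (𝒟.chartMap k) (𝒟.chartMap l) ≫ 𝒟.hk k =
      pullback.snd (𝒟.chartMap k) (𝒟.chartMap l) ≫ 𝒟.hk l := by
  haveI : IsReduced (pullback (𝒟.chartMap k) (𝒟.chartMap l)) :=
    isReduced_of_isOpenImmersion (pullback.fst (𝒟.chartMap k) (𝒟.chartMap l))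
  let δ : Spec (CommRingCat.of L) ⟶ pullback (𝒟.chartMap k) (𝒟.chartMap l) :=
    pullback.lift (𝒟.genB k) (𝒟.genB l) (by rw [genB_chartMap, genB_chartMap])
  have hδ1 : δ ≫ pullback.fst _ _ = 𝒟.genB k := pullback.lift_fst _ _ _
  have hδ2 : δ ≫ pullback.snd _ _ = 𝒟.genB l := pullback.lift_snd _ _ _
  refine hom_ext_of_generic δ (pt (L := L)) ?_ _ _ ?_ ?_
  · intro O hO
    obtain ⟨y, hy⟩ := hO
    have h1 : 𝒟.genB k (pt (L := L)) ∈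
        (pullback.fst (𝒟.chartMap k) (𝒟.chartMap l)) ''ᵁ O :=
      𝒟.genB_pt_mem k _ ⟨_, y, hy, rfl⟩
    obtain ⟨z, hz, hz'⟩ := h1
    have h2 : pullback.fst (𝒟.chartMap k) (𝒟.chartMap l) (δ (pt (L := L))) =
        𝒟.genB k (pt (L := L)) := by
      rw [← Scheme.Hom.comp_apply, hδ1]
    have : z = δ (pt (L := L)) :=
      (pullback.fst (𝒟.chartMap k) (𝒟.chartMap l)).isOpenEmbedding.injective (hz'.trans h2.symm)
    rw [← this]
    exact hz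
  · rw [reassoc_of% hδ1, reassoc_of% hδ2, genB_hk, genB_hk]
  · intro p
    refine ⟨𝒟.V l, 𝒟.hV l, ?_, ?_⟩
    · rw [Scheme.Hom.comp_apply]
      have hq : 𝒟.incl k (𝒟.γR l) ∉ (show PrimeSpectrum (𝒟.B k) from
          pullback.fst (𝒟.chartMap k) (𝒟.chartMap l) p).asIdeal := by
        rw [← chartMap_mem_basicOpen_iff, ← range_chartMap, ← Scheme.Hom.comp_apply,
          pullback.condition, Scheme.Hom.comp_apply]
        exact ⟨_, rfl⟩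
      obtain ⟨i, hi⟩ := 𝒟.exists_not_mem k l _ hq
      exact 𝒟.ha k l i ((𝒟.mem_basicOpen_iff k _ _).mpr hi)
    · rw [Scheme.Hom.comp_apply]
      exact 𝒟.hk_mem_V l _

/-- **The glued morphism `T' ⟶ X`.** -/
noncomputable def h : 𝒟.T' ⟶ X :=
  𝒟.cover.glueMorphisms 𝒟.hk (fun k l => 𝒟.compat k l)

lemma chartMap_h (k : 𝒟.ι) : 𝒟.chartMap k ≫ 𝒟.h = 𝒟.hk k :=
  𝒟.cover.ι_glueMorphisms 𝒟.hk _ k

lemma genR_h [Nonempty 𝒟.ι] : 𝒟.genR ≫ 𝒟.h = 𝒟.gen := by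
  obtain ⟨k⟩ := ‹Nonempty 𝒟.ι›
  rw [← 𝒟.genB_chartMap k, Category.assoc, chartMap_h, genB_hk]

end Datum

end Groth.Agent.Lib.Helper28.AffImg
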