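import Groth.Agent.Lib.Helper28.AffImg.Build2
import Groth.Agent.Lib.Helper28.Pinch.Avoid
import Groth.Agent.S7658
import Groth.Agent.S7659

/-!
# The glued morphism: finite type, the projection, stalks, and the affine open
-/

set_option autoImplicit false
universe u

open CategoryTheory Limits AlgebraicGeometry

namespace Groth.Agent.Lib.Helper28.AffImg

/-- Injectivity of stalk maps for a morphism hitting a generic point. -/
theorem stalkMap_injective_of_generic {A B : Scheme.{u}} [IsIntegral A] [IsReduced B]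
    (π : A ⟶ B) (a₀ : A) (ha₀ : ∀ O : B.Opens, (O : Set B).Nonempty → π a₀ ∈ O) (t : A) :
    Function.Injective (π.stalkMap t) := by
  rw [injective_iff_map_eq_zero]
  intro y hy
  obtain ⟨O, hO, s, rfl⟩ := B.presheaf.exists_germ_eq y
  rw [Scheme.Hom.germ_stalkMap_apply] at hy
  have h1 : π.app O s = 0 := by
    apply germ_injective_of_isIntegral A t hO
    rw [hy, map_zero]
  rw [eq_zero_of_app_eq_zero π a₀ ha₀ O s h1, map_zero]

/-- Transfer of stalk isomorphisms along a factorisation. -/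
theorem isIso_stalkMap_of_comp {A B C : Scheme.{u}} (π : A ⟶ B) (h : B ⟶ C) (t : A)
    (hiso : IsIso ((π ≫ h).stalkMap t)) (hinj : Function.Injective (π.stalkMap t)) :
    IsIso (h.stalkMap (π t)) := by
  have hbij : Function.Bijective ((π ≫ h).stalkMap t) :=
    (ConcreteCategory.isIso_iff_bijective _).mp hiso
  have hcomp : ∀ x, (π ≫ h).stalkMap t x = π.stalkMap t (h.stalkMap (π t) x) := by
    intro x
    rw [Scheme.Hom.stalkMap_comp]
    rfl
  rw [ConcreteCategory.isIso_iff_bijective]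
  constructor
  · intro x x' hxx'
    apply hbij.1
    rw [hcomp, hcomp, hxx']
  · intro y
    obtain ⟨x, hx⟩ := hbij.2 (π.stalkMap t y)
    refine ⟨x, hinj ?_⟩
    rw [← hcomp, hx]

namespace Datum

variable {X : Scheme.{u}} {L : Type u} [Field L] (𝒟 : Datum X L)

theorem locallyOfFiniteType_h (hft : ∀ k, (𝒟.ψ k).FiniteType) : LocallyOfFiniteType 𝒟.h := by
  rw [IsZariskiLocalAtSource.iff_of_openCover (P := @LocallyOfFiniteType) 𝒟.cover]
  intro k
  change LocallyOfFiniteType (𝒟.chartMap k ≫ 𝒟.h)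
  rw [chartMap_h, hk]
  haveI : LocallyOfFiniteType (Spec.map (CommRingCat.ofHom (𝒟.ψ k))) :=
    (HasRingHomProperty.Spec_iff (P := @LocallyOfFiniteType)).mpr (hft k)
  infer_instance

lemma nonempty_ι : Nonempty 𝒟.ι := by
  by_contra hne
  rw [not_nonempty_iff] at hne
  have := 𝒟.hsum
  rw [Finset.univ_eq_empty, Finset.sum_empty] at this
  exact zero_ne_one this

section Proj

variable {T : Scheme.{u}} [IsIntegral T] (f : T ⟶ X)
  (δT : Spec (CommRingCat.of L) ⟶ T)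
  (hδT : δT ≫ f = 𝒟.gen)
  (hgenT : ∀ O : T.Opens, (O : Set T).Nonempty → δT (pt (L := L)) ∈ O)
  (σ : 𝒟.R' →+* Γ(T, ⊤))
  (hσ : δT ≫ T.toSpecΓ ≫ Spec.map (CommRingCat.ofHom σ) = 𝒟.genR)
  (hD : ∀ k, T.basicOpen (σ (𝒟.γR k)) ≤ f ⁻¹ᵁ 𝒟.V k)

/-- The projection `T ⟶ T'`. -/
noncomputable def π : T ⟶ 𝒟.T' := T.toSpecΓ ≫ Spec.map (CommRingCat.ofHom σ)

include hδT hgenT hσ hD in
theorem π_h : 𝒟.π σ ≫ 𝒟.h = f := by
  haveI := 𝒟.nonempty_ι
  refine hom_ext_of_generic δT (pt (L := L)) hgenT _ _ ?_ ?_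
  · rw [hδT, π, ← Category.assoc, ← Category.assoc, Category.assoc δT, hσ, genR_h]
  · intro t
    obtain ⟨k, q, hq⟩ := 𝒟.cover.exists_eq (𝒟.π σ t)
    have hq' : 𝒟.chartMap k q = 𝒟.π σ t := hq
    refine ⟨𝒟.V k, 𝒟.hV k, ?_, ?_⟩
    · rw [Scheme.Hom.comp_apply, ← hq', ← Scheme.Hom.comp_apply, chartMap_h]
      exact 𝒟.hk_mem_V k q
    · apply hD k
      rw [← Scheme.toSpecΓ_preimage_basicOpen]
      have h1 : 𝒟.π σ t ∈ Set.range (𝒟.chartMap k) := ⟨q, hq'⟩
      rw [range_chartMap] at h1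
      exact h1

include hσ in
lemma π_generic (O : 𝒟.T'.Opens) (hO : (O : Set 𝒟.T').Nonempty) :
    𝒟.π σ (δT (pt (L := L))) ∈ O := by
  haveI := 𝒟.nonempty_ι
  obtain ⟨k⟩ := 𝒟.nonempty_ι
  have h1 : 𝒟.π σ (δT (pt (L := L))) = 𝒟.chartMap k (𝒟.genB k (pt (L := L))) := by
    rw [← Scheme.Hom.comp_apply, ← Scheme.Hom.comp_apply, genB_chartMap, ← hσ]
    rfl
  obtain ⟨y, hy⟩ := hO
  -- the generic point of `T'` specialises to every point
  have hspec : 𝒟.π σ (δT (pt (L := L))) ⤳ y := by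
    rw [h1]
    change (show PrimeSpectrum 𝒟.R' from 𝒟.chartMap k (𝒟.genB k (pt (L := L)))) ⤳
      (show PrimeSpectrum 𝒟.R' from y)
    rw [← PrimeSpectrum.le_iff_specializes]
    intro b hb
    have hb0 : ((𝒟.B k).subtype (𝒟.incl k b) : L) = 0 := hb
    have : b = 0 := Subtype.ext hb0
    rw [this]
    exact Ideal.zero_mem _
  exact hspec.mem_open O.isOpen hy

end Proj

end Datum

end Groth.Agent.Lib.Helper28.AffImg
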