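import Groth.Agent.Lib.Helper28.AffImg.Build3

/-!
# The affine open produced by a gluing datum
-/

set_option autoImplicit false
universe u

open CategoryTheory Limits AlgebraicGeometry

namespace Groth.Agent.Lib.Helper28.AffImg

namespace Datum

variable {X : Scheme.{u}} {L : Type u} [Field L] (𝒟 : Datum X L)

variable {T : Scheme.{u}} [IsIntegral T] (f : T ⟶ X)
  (δT : Spec (CommRingCat.of L) ⟶ T)
  (hδT : δT ≫ f = 𝒟.gen)
  (hgenT : ∀ O : T.Opens, (O : Set T).Nonempty → δT (pt (L := L)) ∈ O)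
  (σ : 𝒟.R' →+* Γ(T, ⊤))
  (hσ : δT ≫ T.toSpecΓ ≫ Spec.map (CommRingCat.ofHom σ) = 𝒟.genR)
  (hD : ∀ k, T.basicOpen (σ (𝒟.γR k)) ≤ f ⁻¹ᵁ 𝒟.V k)

include hδT hgenT hσ hD in
theorem exists_affineOpen (hft : ∀ k, (𝒟.ψ k).FiniteType) [IsReduced X]
    (hX : (irreducibleComponents (X : Type u)).Finite)
    (s : Finset T) (hs : ∀ t ∈ s, IsIso (f.stalkMap t)) :
    ∃ U : X.Opens, IsAffineOpen U ∧ ∀ t ∈ s, f t ∈ U := by
  classical
  haveI := 𝒟.locallyOfFiniteType_h hft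
  have hπh : 𝒟.π σ ≫ 𝒟.h = f := 𝒟.π_h f δT hδT hgenT σ hσ hD
  have hstalk : ∀ t ∈ s, IsIso (𝒟.h.stalkMap (𝒟.π σ t)) := by
    intro t ht
    refine isIso_stalkMap_of_comp (𝒟.π σ) 𝒟.h t ?_ ?_
    · rw [hπh]; exact hs t ht
    · exact stalkMap_injective_of_generic (𝒟.π σ) (δT (pt (L := L)))
        (𝒟.π_generic δT σ hσ) t
  have hex : ∀ t : T, ∃ U : 𝒟.T'.Opens, t ∈ s → (𝒟.π σ t ∈ U ∧ IsOpenImmersion (U.ι ≫ 𝒟.h)) := by
    intro t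
    by_cases ht : t ∈ s
    · obtain ⟨U, hU1, hU2⟩ := Groth.Agent.S7659.result 𝒟.h hX (𝒟.π σ t) (hstalk t ht)
      exact ⟨U, fun _ => ⟨hU1, hU2⟩⟩
    · exact ⟨⊥, fun h => absurd h ht⟩
  choose U hU using hex
  let O : 𝒟.T'.Opens := ⨆ t ∈ s, U t
  let F : Set 𝒟.T' := (𝒟.π σ) '' (s : Set T)
  have hF : F.Finite := s.finite_toSet.image _
  have hFO : F ⊆ O := by
    rintro _ ⟨t, ht, rfl⟩
    exact TopologicalSpace.Opens.mem_iSup.mpr ⟨t, TopologicalSpace.Opens.mem_iSup.mpr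
      ⟨ht, (hU t ht).1⟩⟩
  obtain ⟨g', hg'F, hg'O⟩ := Groth.Agent.Lib.Helper28.Pinch.exists_basicOpen_finite
    (isAffineOpen_top 𝒟.T') F hF (fun _ _ => trivial) O hFO
  let W : 𝒟.T'.Opens := 𝒟.T'.basicOpen g'
  have hW : IsAffineOpen W := (isAffineOpen_top 𝒟.T').basicOpen g'
  haveI : IsAffine W.toScheme := hW
  by_cases hne : s.Nonempty
  swap
  · refine ⟨⊥, isAffineOpen_bot X, fun t ht => absurd ⟨t, ht⟩ hne⟩
  obtain ⟨t₀, ht₀⟩ := hne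
  haveI : Nonempty W.toScheme := ⟨⟨𝒟.π σ t₀, hg'F ⟨t₀, ht₀, rfl⟩⟩⟩
  haveI : IsIntegral W.toScheme := isIntegral_of_isOpenImmersion W.ι
  haveI : IsSeparated (W.ι ≫ 𝒟.h) := by
    haveI : IsSeparated ((W.ι ≫ 𝒟.h) ≫ terminal.from X) := inferInstance
    exact IsSeparated.of_comp (W.ι ≫ 𝒟.h) (terminal.from X)
  haveI : IsOpenImmersion (W.ι ≫ 𝒟.h) := by
    refine Groth.Agent.S7658.result (W.ι ≫ 𝒟.h) ?_ ?_
    · intro x
      have hxO : x.1 ∈ O := hg'O x.2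
      obtain ⟨t, ht⟩ := TopologicalSpace.Opens.mem_iSup.mp hxO
      obtain ⟨hts, hxU⟩ := TopologicalSpace.Opens.mem_iSup.mp ht
      haveI : IsOpenImmersion ((U t).ι ≫ 𝒟.h) := (hU t hts).2
      refine ⟨W.ι ⁻¹ᵁ U t, hxU, ?_⟩
      have hr : Set.range ((W.ι ⁻¹ᵁ U t).ι ≫ W.ι) ⊆ Set.range (U t).ι := by
        rintro _ ⟨y, rfl⟩
        rw [Scheme.Opens.range_ι]
        exact y.2
      have hfac : IsOpenImmersion.lift (U t).ι ((W.ι ⁻¹ᵁ U t).ι ≫ W.ι) hr ≫ (U t).ι =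
          (W.ι ⁻¹ᵁ U t).ι ≫ W.ι := IsOpenImmersion.lift_fac _ _ _
      haveI : IsOpenImmersion (IsOpenImmersion.lift (U t).ι ((W.ι ⁻¹ᵁ U t).ι ≫ W.ι) hr) := by
        haveI : IsOpenImmersion (IsOpenImmersion.lift (U t).ι ((W.ι ⁻¹ᵁ U t).ι ≫ W.ι) hr ≫
            (U t).ι) := by rw [hfac]; infer_instance
        exact IsOpenImmersion.of_comp _ (U t).ι
      rw [← Category.assoc, ← hfac, Category.assoc]
      infer_instance
    · intro ξ ξ' hξ hξ' _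
      rw [irreducibleComponents_eq_singleton, Set.mem_singleton_iff] at hξ hξ'
      have h1 : IsGenericPoint ξ (Set.univ : Set W.toScheme) := hξ
      have h2 : IsGenericPoint ξ' (Set.univ : Set W.toScheme) := hξ'
      exact h1.eq h2
  refine ⟨(W.ι ≫ 𝒟.h).opensRange, isAffineOpen_opensRange _, fun t ht => ?_⟩
  refine ⟨⟨𝒟.π σ t, hg'F ⟨t, ht, rfl⟩⟩, ?_⟩
  rw [Scheme.Hom.comp_apply, ← hπh, Scheme.Hom.comp_apply]
  rfl

end Datum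

end Groth.Agent.Lib.Helper28.AffImg
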