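import Groth.Agent.Lib.Helper28.AffImg.Build4

/-!
# Extracting a gluing datum from a dominant morphism of integral schemes
-/

set_option autoImplicit false
universe u

open CategoryTheory Limits AlgebraicGeometry

namespace Groth.Agent.Lib.Helper28.AffImg

variable {T X : Scheme.{u}} [IsIntegral T] (f : T ⟶ X)

/-- The germ map at the generic point. -/
noncomputable def eO (O : T.Opens) (hO : genericPoint T ∈ O) : Γ(T, O) →+* T.functionField :=
  (T.presheaf.germ O (genericPoint T) hO).hom

lemma eO_injective (O : T.Opens) (hO : genericPoint T ∈ O) : Function.Injective (eO O hO) :=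
  germ_injective_of_isIntegral T (genericPoint T) hO

lemma eO_res {O O' : T.Opens} (h : O' ≤ O) (hO' : genericPoint T ∈ O') (s : Γ(T, O)) :
    eO O' hO' (T.presheaf.map (homOfLE h).op s) = eO O (h hO') s :=
  TopCat.Presheaf.germ_res_apply T.presheaf (homOfLE h) (genericPoint T) hO' s

lemma generic_mem (O : T.Opens) (hO : (O : Set T).Nonempty) : genericPoint T ∈ O := by
  change genericPoint T ∈ (O : Set T)
  rw [(genericPoint_spec T).mem_open_set_iff O.isOpen]
  simpa using hO

/-- The map from sections of `X` to the function field of `T`. -/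
noncomputable def ρV (V : X.Opens) (hV : f (genericPoint T) ∈ V) : Γ(X, V) →+* T.functionField :=
  (X.presheaf.germ V (f (genericPoint T)) hV ≫ f.stalkMap (genericPoint T)).hom

lemma ρV_eq (V : X.Opens) (hV : f (genericPoint T) ∈ V) (O : T.Opens) (hO : genericPoint T ∈ O)
    (hOV : O ≤ f ⁻¹ᵁ V) (a : Γ(X, V)) : ρV f V hV a = eO O hO (f.appLE V O hOV a) := by
  change f.stalkMap (genericPoint T) (X.presheaf.germ V (f (genericPoint T)) hV a) = _
  rw [Scheme.Hom.germ_stalkMap_apply, Scheme.Hom.appLE]
  exact (eO_res hOV hO (f.app V a)).symm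

lemma ρV_res {V V' : X.Opens} (h : V' ≤ V) (hV' : f (genericPoint T) ∈ V') (a : Γ(X, V)) :
    ρV f V' hV' (X.presheaf.map (homOfLE h).op a) = ρV f V (h hV') a := by
  change f.stalkMap (genericPoint T) (X.presheaf.germ V' (f (genericPoint T)) hV'
    (X.presheaf.map (homOfLE h).op a)) =
    f.stalkMap (genericPoint T) (X.presheaf.germ V (f (genericPoint T)) (h hV') a)
  rw [TopCat.Presheaf.germ_res_apply]

/-- The generic point of `X` as seen from `T`. -/
noncomputable def genT : Spec (CommRingCat.of T.functionField) ⟶ X :=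
  T.fromSpecStalk (genericPoint T) ≫ f

lemma SpecMap_ρV (V : X.Opens) (hVa : IsAffineOpen V) (hV : f (genericPoint T) ∈ V) :
    Spec.map (CommRingCat.ofHom (ρV f V hV)) ≫ hVa.fromSpec = genT f := by
  have h1 : CommRingCat.ofHom (ρV f V hV) =
      X.presheaf.germ V (f (genericPoint T)) hV ≫ f.stalkMap (genericPoint T) := rfl
  rw [h1, Spec.map_comp, Category.assoc]
  have h2 : Spec.map (X.presheaf.germ V (f (genericPoint T)) hV) ≫ hVa.fromSpec =
      X.fromSpecStalk (f (genericPoint T)) := by
    rw [← hVa.fromSpecStalk_eq_fromSpecStalk hV]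
    rfl
  rw [h2, Scheme.SpecMap_stalkMap_fromSpecStalk]
  rfl

lemma fromSpecStalk_pt : T.fromSpecStalk (genericPoint T) (Datum.pt (L := T.functionField)) =
    genericPoint T := by
  have : (Datum.pt (L := T.functionField)) =
      IsLocalRing.closedPoint (T.presheaf.stalk (genericPoint T)) := by
    apply PrimeSpectrum.ext
    change (⊥ : Ideal T.functionField) = IsLocalRing.maximalIdeal T.functionField
    exact (IsLocalRing.isField_iff_maximalIdeal_eq.mp (Field.toIsField _)).symm
  rw [this]
  exact Scheme.fromSpecStalk_closedPoint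

end Groth.Agent.Lib.Helper28.AffImg
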