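import Groth.Agent.Lib.Helper28.AffImg.Extract

/-!
# Extracting a gluing datum, II: covers and overlaps
-/

set_option autoImplicit false
universe u

open CategoryTheory Limits AlgebraicGeometry

namespace Groth.Agent.Lib.Helper28.AffImg

variable {T X : Scheme.{u}} [IsIntegral T] [IsAffine T] (f : T ⟶ X)

/-- A finite cover of `T` by basic opens mapping into affine opens of `X`. -/
theorem exists_cover : ∃ (s' : Finset Γ(T, ⊤)) (V : Γ(T, ⊤) → X.Opens) (c : Γ(T, ⊤) → Γ(T, ⊤)),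
    (∀ g ∈ s', IsAffineOpen (V g) ∧ T.basicOpen g ≤ f ⁻¹ᵁ V g ∧
      genericPoint T ∈ T.basicOpen g) ∧ ∑ g ∈ s', c g * g = 1 := by
  classical
  let S : Set Γ(T, ⊤) := {g | ∃ V : X.Opens, IsAffineOpen V ∧ T.basicOpen g ≤ f ⁻¹ᵁ V ∧
    genericPoint T ∈ T.basicOpen g}
  have hspan : Ideal.span S = ⊤ := by
    rw [← (isAffineOpen_top T).self_le_iSup_basicOpen_iff]
    intro t _
    obtain ⟨_, ⟨V, hV, rfl⟩, htV, -⟩ := X.isBasis_affineOpens.exists_subset_of_mem_open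
      (Set.mem_univ (f t)) isOpen_univ
    have ht : t ∈ f ⁻¹ᵁ V := htV
    obtain ⟨_, ⟨_, ⟨g, rfl⟩, rfl⟩, htg, hgV⟩ :=
      (isBasis_basicOpen T).exists_subset_of_mem_open ht (f ⁻¹ᵁ V).isOpen
    have hgS : g ∈ S := ⟨V, hV, hgV, generic_mem _ ⟨t, htg⟩⟩
    exact TopologicalSpace.Opens.mem_iSup.mpr ⟨⟨g, hgS⟩, htg⟩
  obtain ⟨s', hs'S, hs'⟩ := (Ideal.span_eq_top_iff_finite S).mp hspan
  have h1 : (1 : Γ(T, ⊤)) ∈ Ideal.span (s' : Set Γ(T, ⊤)) := by rw [hs']; trivial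
  obtain ⟨c, -, hc⟩ := Submodule.mem_span_finset.mp h1
  let V : Γ(T, ⊤) → X.Opens := fun g => if h : g ∈ S then h.choose else ⊥
  refine ⟨s', V, c, fun g hg => ?_, hc⟩
  have hgS : g ∈ S := hs'S hg
  have hV : V g = hgS.choose := dif_pos hgS
  rw [hV]
  exact hgS.choose_spec

/-- Overlap data for two charts. -/
theorem exists_overlap (V V' : X.Opens) (hV : IsAffineOpen V) (g g' : Γ(T, ⊤))
    (hg : T.basicOpen g ≤ f ⁻¹ᵁ V) (hg' : T.basicOpen g' ≤ f ⁻¹ᵁ V')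
    (hle : T.basicOpen (g * g') ≤ f ⁻¹ᵁ V) :
    ∃ (α : Type u) (_ : Fintype α) (a : α → Γ(X, V)) (d : α → Γ(T, T.basicOpen (g * g'))),
      (∀ i, X.basicOpen (a i) ≤ V') ∧
        ∑ i, d i * f.appLE V (T.basicOpen (g * g')) hle (a i) = 1 := by
  classical
  have hD : IsAffineOpen (T.basicOpen (g * g')) := (isAffineOpen_top T).basicOpen _
  let S₀ : Set Γ(T, T.basicOpen (g * g')) :=
    {b | ∃ a : Γ(X, V), X.basicOpen a ≤ V' ∧ b = f.appLE V (T.basicOpen (g * g')) hle a}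
  have hspan : Ideal.span S₀ = ⊤ := by
    rw [← hD.self_le_iSup_basicOpen_iff]
    intro t ht
    have ht' : t ∈ T.basicOpen g ⊓ T.basicOpen g' := by rwa [← Scheme.basicOpen_mul]
    have hft : f t ∈ V ⊓ V' := ⟨hg ht'.1, hg' ht'.2⟩
    obtain ⟨a, haV, hta⟩ := hV.exists_basicOpen_le (V := V ⊓ V') ⟨f t, hft⟩ hft.1
    have hbS : f.appLE V (T.basicOpen (g * g')) hle a ∈ S₀ := ⟨a, haV.trans inf_le_right, rfl⟩
    refine TopologicalSpace.Opens.mem_iSup.mpr ⟨⟨_, hbS⟩, ?_⟩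
    change t ∈ T.basicOpen (f.appLE V (T.basicOpen (g * g')) hle a)
    rw [Scheme.Hom.appLE, CommRingCat.comp_apply, Scheme.basicOpen_res,
      ← Scheme.preimage_basicOpen]
    exact ⟨ht, hta⟩
  obtain ⟨s₀, hs₀S, hs₀⟩ := (Ideal.span_eq_top_iff_finite S₀).mp hspan
  have h1 : (1 : Γ(T, T.basicOpen (g * g'))) ∈
      Ideal.span (s₀ : Set Γ(T, T.basicOpen (g * g'))) := by rw [hs₀]; trivial
  obtain ⟨c, -, hc⟩ := Submodule.mem_span_finset.mp h1
  have hex : ∀ i : s₀, ∃ a : Γ(X, V), X.basicOpen a ≤ V' ∧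
      (i : Γ(T, T.basicOpen (g * g'))) = f.appLE V (T.basicOpen (g * g')) hle a :=
    fun i => hs₀S i.2
  choose a ha1 ha2 using hex
  refine ⟨s₀, inferInstance, a, fun i => c i.1, ha1, ?_⟩
  rw [← hc, ← Finset.sum_coe_sort s₀]
  refine Finset.sum_congr rfl fun i _ => ?_
  rw [← ha2 i]
  rfl

/-- Numerators of sections over a basic open, inside the function field. -/
theorem exists_numerator (g' : Γ(T, ⊤)) (hη : genericPoint T ∈ T.basicOpen g')
    (b : Γ(T, T.basicOpen g')) :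
    ∃ (n : ℕ) (r : Γ(T, ⊤)),
      eO ⊤ trivial g' ^ n * eO (T.basicOpen g') hη b = eO ⊤ trivial r := by
  have hU := isAffineOpen_top T
  letI : Algebra Γ(T, ⊤) Γ(T, T.basicOpen g') :=
    (T.presheaf.map (homOfLE (le_top : T.basicOpen g' ≤ ⊤)).op).hom.toAlgebra
  haveI : IsLocalization.Away g' Γ(T, T.basicOpen g') :=
    hU.isLocalization_of_eq_basicOpen g' (homOfLE le_top) rfl
  obtain ⟨⟨r, ⟨_, n, rfl⟩⟩, hr⟩ := IsLocalization.surj (Submonoid.powers g') b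
  refine ⟨n, r, ?_⟩
  have hr' : b * (T.presheaf.map (homOfLE (le_top : T.basicOpen g' ≤ ⊤)).op).hom g' ^ n =
      (T.presheaf.map (homOfLE (le_top : T.basicOpen g' ≤ ⊤)).op).hom r := by
    rw [← map_pow]; exact hr
  have h2 := congrArg (eO (T.basicOpen g') hη) hr'
  rw [map_mul, map_pow] at h2
  have h3 : ∀ s : Γ(T, ⊤), eO (T.basicOpen g') hη
      ((T.presheaf.map (homOfLE (le_top : T.basicOpen g' ≤ ⊤)).op).hom s) = eO ⊤ trivial s :=
    fun s => eO_res le_top hη s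
  rw [h3, h3] at h2
  rw [mul_comm]
  exact h2

end Groth.Agent.Lib.Helper28.AffImg
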