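import Groth.Agent.Lib.Helper28.AffImg.Extract2

/-!
# Extracting a gluing datum, III: the algebraic hypotheses
-/

set_option autoImplicit false
universe u

open CategoryTheory Limits AlgebraicGeometry

namespace Groth.Agent.Lib.Helper28.AffImg

variable {T X : Scheme.{u}} [IsIntegral T] [IsAffine T] (f : T ⟶ X)

/-- Sections of `X` over `V` are fractions with denominator a power of `g`. -/
theorem ρV_mem_away (V : X.Opens) (g : Γ(T, ⊤)) (hη : genericPoint T ∈ T.basicOpen g)
    (hg : T.basicOpen g ≤ f ⁻¹ᵁ V) (b : Γ(X, V)) :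
    ρV f V (hg hη) b ∈ away (eO (T := T) ⊤ trivial).range (eO ⊤ trivial g) ⟨g, rfl⟩ := by
  obtain ⟨n, r, hr⟩ := exists_numerator g hη (f.appLE V (T.basicOpen g) hg b)
  refine ⟨n, r, ?_⟩
  rw [ρV_eq f V (hg hη) (T.basicOpen g) hη hg b]
  exact hr.symm

variable [IsReduced X]

/-- The comparison of two charts of `X` on a basic open. -/
theorem exists_pow_mul_mem (hgen : ∀ O : X.Opens, (O : Set X).Nonempty → f (genericPoint T) ∈ O)
    (V V' : X.Opens) (hV : IsAffineOpen V) (hVη : f (genericPoint T) ∈ V)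
    (hV'η : f (genericPoint T) ∈ V') (a : Γ(X, V)) (ha : X.basicOpen a ≤ V') (b : Γ(X, V')) :
    ∃ m : ℕ, ρV f V hVη a ^ m * ρV f V' hV'η b ∈ (ρV f V hVη).range := by
  by_cases hne : ((X.basicOpen a : X.Opens) : Set X).Nonempty
  · have hW : f (genericPoint T) ∈ X.basicOpen a := hgen _ hne
    letI : Algebra Γ(X, V) Γ(X, X.basicOpen a) :=
      (X.presheaf.map (homOfLE (X.basicOpen_le a)).op).hom.toAlgebra
    haveI : IsLocalization.Away a Γ(X, X.basicOpen a) :=
      hV.isLocalization_of_eq_basicOpen a (homOfLE (X.basicOpen_le a)) rfl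
    obtain ⟨⟨y, ⟨_, m, rfl⟩⟩, hy⟩ := IsLocalization.surj (Submonoid.powers a)
      (X.presheaf.map (homOfLE ha).op b)
    have hy' : X.presheaf.map (homOfLE ha).op b *
        (X.presheaf.map (homOfLE (X.basicOpen_le a)).op).hom a ^ m =
        (X.presheaf.map (homOfLE (X.basicOpen_le a)).op).hom y := by
      rw [← map_pow]; exact hy
    have h2 := congrArg (ρV f (X.basicOpen a) hW) hy'
    rw [map_mul, map_pow] at h2
    have h3 : ∀ s : Γ(X, V), ρV f (X.basicOpen a) hW
        ((X.presheaf.map (homOfLE (X.basicOpen_le a)).op).hom s) = ρV f V hVη s :=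
      fun s => ρV_res f (X.basicOpen_le a) hW s
    have h4 : ρV f (X.basicOpen a) hW (X.presheaf.map (homOfLE ha).op b) = ρV f V' hV'η b :=
      ρV_res f ha hW b
    rw [h3, h3, h4] at h2
    refine ⟨m, y, ?_⟩
    rw [mul_comm]
    exact h2.symm
  · have h0 : X.basicOpen a = ⊥ := by
      ext x
      simp only [TopologicalSpace.Opens.coe_bot, Set.mem_empty_iff_false, iff_false]
      exact fun hx => hne ⟨x, hx⟩
    have ha0 : a = 0 := (basicOpen_eq_bot_iff a).mp h0
    refine ⟨1, 0, ?_⟩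
    simp [ha0]


end Groth.Agent.Lib.Helper28.AffImg
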