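import Groth.Agent.Lib.Helper28.AffImg.Extract3

/-!
# The integral case: images of finitely many points with isomorphic local rings lie in an
affine open
-/

set_option autoImplicit false
universe u

open CategoryTheory Limits AlgebraicGeometry

namespace Groth.Agent.Lib.Helper28.AffImg

set_option maxHeartbeats 1600000 in
/-- **The integral case.** -/
theorem integral_case {T X : Scheme.{u}} (f : T ⟶ X) [IsAffine T] [IsIntegral T] [IsIntegral X]
    (hgen : f (genericPoint T) = genericPoint X) (s : Finset T)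
    (hs : ∀ t ∈ s, IsIso (f.stalkMap t)) :
    ∃ U : X.Opens, IsAffineOpen U ∧ ∀ t ∈ s, f t ∈ U := by
  classical
  have hfη : ∀ O : X.Opens, (O : Set X).Nonempty → f (genericPoint T) ∈ O := by
    intro O hO
    rw [hgen]
    exact generic_mem O hO
  obtain ⟨s', V, c, hs', hc⟩ := exists_cover f
  -- the maps to the function field
  have he : Function.Injective (eO (T := T) ⊤ trivial) := eO_injective ⊤ trivial
  have hVaff : ∀ k : s', IsAffineOpen (V k.1) := fun k => (hs' k.1 k.2).1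
  have hgV : ∀ k : s', T.basicOpen k.1 ≤ f ⁻¹ᵁ V k.1 := fun k => (hs' k.1 k.2).2.1
  have hηg : ∀ k : s', genericPoint T ∈ T.basicOpen k.1 := fun k => (hs' k.1 k.2).2.2
  have hVη : ∀ k : s', f (genericPoint T) ∈ V k.1 := fun k => hgV k (hηg k)
  have hsum : ∑ k : s', eO (T := T) ⊤ trivial (c k.1) * eO (T := T) ⊤ trivial k.1 = 1 := by
    have h1 := congrArg (eO (T := T) ⊤ trivial) hc
    rw [map_sum, map_one, ← Finset.sum_coe_sort s'] at h1
    simpa only [map_mul] using h1
  have hγ0 : ∀ k : s', eO (T := T) ⊤ trivial k.1 ≠ 0 := by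
    intro k
    have h1 := hηg k
    rw [T.mem_basicOpen k.1 (genericPoint T) trivial] at h1
    exact h1.ne_zero
  -- overlap data
  have hηkl : ∀ k l : s', genericPoint T ∈ T.basicOpen (k.1 * l.1) := by
    intro k l
    rw [Scheme.basicOpen_mul]
    exact ⟨hηg k, hηg l⟩
  have hlekl : ∀ k l : s', T.basicOpen (k.1 * l.1) ≤ f ⁻¹ᵁ V k.1 := by
    intro k l
    rw [Scheme.basicOpen_mul]
    exact inf_le_left.trans (hgV k)
  have hov : ∀ k l : s', ∃ (α : Type u) (_ : Fintype α) (a : α → Γ(X, V k.1))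
      (d : α → Γ(T, T.basicOpen (k.1 * l.1))), (∀ i, X.basicOpen (a i) ≤ V l.1) ∧
        ∑ i, d i * f.appLE (V k.1) (T.basicOpen (k.1 * l.1)) (hlekl k l) (a i) = 1 :=
    fun k l => exists_overlap f (V k.1) (V l.1) (hVaff k) k.1 l.1 (hgV k) (hgV l) (hlekl k l)
  choose α finα a d' ha hda' using hov
  letI : ∀ k l, Fintype (α k l) := finα
  have hnum : ∀ (k l : s') (i : α k l), ∃ (n : ℕ) (r : Γ(T, ⊤)),
      eO ⊤ trivial (k.1 * l.1) ^ n * eO (T.basicOpen (k.1 * l.1)) (hηkl k l) (d' k l i) =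
        eO ⊤ trivial r :=
    fun k l i => exists_numerator (k.1 * l.1) (hηkl k l) (d' k l i)
  choose n r hr using hnum
  -- the finite set of generators
  let E : Set T.functionField :=
    Set.range (fun k : s' => eO (T := T) ⊤ trivial k.1) ∪
      Set.range (fun k : s' => eO (T := T) ⊤ trivial (c k.1)) ∪
      Set.range (fun p : Σ k : s', Σ l : s', α k l => eO (T := T) ⊤ trivial (r p.1 p.2.1 p.2.2))
  have hE : E.Finite :=
    ((Set.finite_range _).union (Set.finite_range _)).union (Set.finite_range _)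
  have hEℛ : E ⊆ (eO (T := T) ⊤ trivial).range := by
    rintro x ((⟨k, rfl⟩ | ⟨k, rfl⟩) | ⟨p, rfl⟩) <;> exact ⟨_, rfl⟩
  have hγE : ∀ k : s', eO (T := T) ⊤ trivial k.1 ∈ E := fun k => Or.inl (Or.inl ⟨k, rfl⟩)
  have hcE : ∀ k : s', eO (T := T) ⊤ trivial (c k.1) ∈ E := fun k => Or.inl (Or.inr ⟨k, rfl⟩)
  have hrE : ∀ (k l : s') (i : α k l), eO (T := T) ⊤ trivial (r k l i) ∈ E :=
    fun k l i => Or.inr ⟨⟨k, l, i⟩, rfl⟩
  -- the algebraic hypotheses
  have hd : ∀ (k l : s') (i : α k l),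
      (eO (T := T) ⊤ trivial k.1 * eO (T := T) ⊤ trivial l.1) ^ n k l i *
        eO (T.basicOpen (k.1 * l.1)) (hηkl k l) (d' k l i) = eO ⊤ trivial (r k l i) := by
    intro k l i
    rw [← map_mul]
    exact hr k l i
  have hda : ∀ k l : s', ∑ i, eO (T.basicOpen (k.1 * l.1)) (hηkl k l) (d' k l i) *
      ρV f (V k.1) (hVη k) (a k l i) = 1 := by
    intro k l
    have h1 := congrArg (eO (T.basicOpen (k.1 * l.1)) (hηkl k l)) (hda' k l)
    rw [map_sum, map_one] at h1
    rw [← h1]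
    refine Finset.sum_congr rfl fun i _ => ?_
    rw [map_mul, ρV_eq f (V k.1) (hVη k) (T.basicOpen (k.1 * l.1)) (hηkl k l) (hlekl k l)]
  have hloc : ∀ (k l : s') (i : α k l), ∀ x ∈ (ρV f (V l.1) (hVη l)).range,
      ∃ m : ℕ, ρV f (V k.1) (hVη k) (a k l i) ^ m * x ∈ (ρV f (V k.1) (hVη k)).range := by
    rintro k l i _ ⟨b, rfl⟩
    exact exists_pow_mul_mem f hfη (V k.1) (V l.1) (hVaff k) (hVη k) (hVη l) (a k l i)
      (ha k l i) b
  have hmain := chart_main (ι := s') (α := α) (eO (T := T) ⊤ trivial).range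
    (fun k => eO (T := T) ⊤ trivial k.1) (fun k => eO (T := T) ⊤ trivial (c k.1))
    (fun k => ⟨k.1, rfl⟩) (fun k => ⟨c k.1, rfl⟩) hsum hγ0
    (fun k => (ρV f (V k.1) (hVη k)).range)
    (by
      rintro k _ ⟨b, rfl⟩
      exact ρV_mem_away f (V k.1) k.1 (hηg k) (hgV k) b)
    (fun k l i => ρV f (V k.1) (hVη k) (a k l i))
    (fun k l i => eO (T.basicOpen (k.1 * l.1)) (hηkl k l) (d' k l i))
    (fun k l i => eO (T := T) ⊤ trivial (r k l i)) n
    (fun k l i => ⟨a k l i, rfl⟩) hd hda hloc E hEℛ hγE hrE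
  obtain ⟨hR'ℛ, hlocB⟩ := hmain
  -- the datum
  let 𝒟 : Datum X T.functionField :=
    { ι := s'
      V := fun k => V k.1
      hV := hVaff
      ρ := fun k => ρV f (V k.1) (hVη k)
      gen := genT f
      hgen := fun k => SpecMap_ρV f (V k.1) (hVaff k) (hVη k)
      R' := ⨅ k : s', chart (ρV f (V k.1) (hVη k)).range E (eO (T := T) ⊤ trivial k.1)
      B := fun k => chart (ρV f (V k.1) (hVη k)).range E (eO (T := T) ⊤ trivial k.1)
      γ := fun k => eO (T := T) ⊤ trivial k.1
      c := fun k => eO (T := T) ⊤ trivial (c k.1)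
      hγ := fun k => Subring.mem_iInf.mpr fun l => subset_chart _ _ _ (hγE k)
      hc := fun k => Subring.mem_iInf.mpr fun l => subset_chart _ _ _ (hcE k)
      hsum := hsum
      hRB := fun k => iInf_le _ k
      hinv := fun k => inv_mem_chart _ _ _
      hγ0 := hγ0
      hloc := hlocB
      hρB := fun k b => le_chart _ _ _ ⟨b, rfl⟩
      α := α
      a := a
      d := fun k l i => eO (T.basicOpen (k.1 * l.1)) (hηkl k l) (d' k l i)
      ha := ha
      hd := fun k l i => d_mem_away (fun k : s' => eO (T := T) ⊤ trivial k.1) hγ0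
        (fun k => (ρV f (V k.1) (hVη k)).range)
        (fun k l i => eO (T.basicOpen (k.1 * l.1)) (hηkl k l) (d' k l i))
        (fun k l i => eO (T := T) ⊤ trivial (r k l i)) n hd E hγE hrE k l i
      hda := hda }
  -- the section `R' → Γ(T, ⊤)`
  let eqv : Γ(T, ⊤) ≃+* (eO (T := T) ⊤ trivial).range :=
    RingEquiv.ofBijective (eO (T := T) ⊤ trivial).rangeRestrict
      ⟨fun x y h => he (congrArg Subtype.val h), RingHom.rangeRestrict_surjective _⟩
  let σ : 𝒟.R' →+* Γ(T, ⊤) := eqv.symm.toRingHom.comp (Subring.inclusion hR'ℛ)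
  have hσe : ∀ x : 𝒟.R', eO (T := T) ⊤ trivial (σ x) = x := by
    intro x
    have h1 : eqv (σ x) = Subring.inclusion hR'ℛ x := eqv.apply_symm_apply _
    exact congrArg Subtype.val h1
  have hσ : T.fromSpecStalk (genericPoint T) ≫ T.toSpecΓ ≫ Spec.map (CommRingCat.ofHom σ) =
      𝒟.genR := by
    rw [← Category.assoc, Scheme.fromSpecStalk_toSpecΓ, ← Spec.map_comp]
    congr 1
    ext x
    exact hσe x
  have hD : ∀ k : s', T.basicOpen (σ (𝒟.γR k)) ≤ f ⁻¹ᵁ V k.1 := by
    intro k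
    have h1 : σ (𝒟.γR k) = k.1 := he (hσe _)
    rw [h1]
    exact hgV k
  have hgenT : ∀ O : T.Opens, (O : Set T).Nonempty →
      T.fromSpecStalk (genericPoint T) (Datum.pt (L := T.functionField)) ∈ O := by
    intro O hO
    rw [fromSpecStalk_pt]
    exact generic_mem O hO
  have hft : ∀ k, (𝒟.ψ k).FiniteType := fun k =>
    finiteType_chart (ρV f (V k.1) (hVη k)) E hE (eO (T := T) ⊤ trivial k.1) (𝒟.ψ k)
      (fun _ => rfl)
  have hX : (irreducibleComponents (X : Type u)).Finite := by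
    rw [irreducibleComponents_eq_singleton]
    exact Set.finite_singleton _
  exact 𝒟.exists_affineOpen f (T.fromSpecStalk (genericPoint T)) rfl hgenT σ hσ hD hft hX s hs

end Groth.Agent.Lib.Helper28.AffImg
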